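import Mathlib
import Groth.Prelude.Def_Mor2

/-! Quasi-affine schemes and morphisms. -/

set_option autoImplicit false
set_option backward.isDefEq.respectTransparency.types false

universe u

namespace Groth.Agent.QuasiAffLib

open CategoryTheory CategoryTheory.Limits AlgebraicGeometry TopologicalSpace

variable {X Y : Scheme.{u}}

theorem compactSpace_of_isCompact {U : X.Opens} (hU : IsCompact (U : Set X)) :
    CompactSpace (U : Scheme.{u}) := isCompact_iff_compactSpace.mp hU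

/-- Basic affine opens inside a quasi-affine open. -/
theorem exists_affine_basicOpen (U : X.Opens) [Scheme.IsQuasiAffine (U : Scheme.{u})] {x : X} (hx : x ∈ U) :
    ∃ r : Γ(X, U), IsAffineOpen (X.basicOpen r) ∧ x ∈ X.basicOpen r := by
  obtain ⟨_, ⟨_, ⟨s, hs, rfl⟩, rfl⟩, hxs, -⟩ :=
    (Scheme.IsQuasiAffine.isBasis_basicOpen (U : Scheme.{u})).exists_subset_of_mem_open
      (Set.mem_univ (⟨x, hx⟩ : (U : Scheme.{u}))) isOpen_univ
  refine ⟨X.presheaf.map (eqToHom U.ι_image_top.symm).op ((U.ι.appIso ⊤).inv s), ?_⟩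
  have : X.basicOpen (X.presheaf.map (eqToHom U.ι_image_top.symm).op ((U.ι.appIso ⊤).inv s)) =
      U.ι ''ᵁ (U : Scheme.{u}).basicOpen s := by
    rw [Scheme.basicOpen_res, Scheme.image_basicOpen, inf_eq_right]
    exact (X.basicOpen_le _).trans U.ι_image_top.le
  rw [this]
  exact ⟨hs.image_of_isOpenImmersion U.ι, ⟨⟨x, hx⟩, hxs, rfl⟩⟩

/-- A compact open of a quasi-affine open is quasi-affine. -/
theorem of_le {U W : X.Opens} (h : U ≤ W) (hU : IsCompact (U : Set X))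
    [Scheme.IsQuasiAffine (W : Scheme.{u})] : Scheme.IsQuasiAffine (U : Scheme.{u}) := by
  have := compactSpace_of_isCompact hU
  exact .of_isImmersion (X.homOfLE h)

/-- Quasi-affineness is local for covers by basic opens. -/
theorem of_basicOpen_cover (X : Scheme.{u}) [CompactSpace X]
    (H : ∀ x : X, ∃ r : Γ(X, ⊤), x ∈ X.basicOpen r ∧
      Scheme.IsQuasiAffine (X.basicOpen r : Scheme.{u})) : X.IsQuasiAffine := by
  choose r hxr hr using H
  have : QuasiSeparatedSpace X :=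
    .of_isOpenCover (U := (X.basicOpen <| r ·))
      (eq_top_iff.mpr fun _ _ ↦ Opens.mem_iSup.mpr ⟨_, hxr _⟩)
      (fun _ ↦ isRetrocompact_basicOpen _) (fun x ↦ by
        have := hr x
        exact (isQuasiSeparated_iff_quasiSeparatedSpace _ (X.basicOpen (r x)).isOpen).mpr
          (inferInstanceAs (QuasiSeparatedSpace (X.basicOpen (r x) : Scheme.{u}))))
  refine .of_forall_exists_mem_basicOpen _ fun x ↦ ?_
  have := hr x
  obtain ⟨t, ht, hxt⟩ := exists_affine_basicOpen (X.basicOpen (r x)) (hxr x)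
  obtain ⟨n, y, hy⟩ := exists_eq_pow_mul_of_isCompact_of_isQuasiSeparated X ⊤ isCompact_univ
    isQuasiSeparated_univ (r x) t
  refine ⟨y * r x, ?_⟩
  have : X.basicOpen (y * r x) = X.basicOpen t := by
    have h1 : X.basicOpen (y * r x) = X.basicOpen (r x) ⊓ X.basicOpen y := by
      rw [Scheme.basicOpen_mul, inf_comm]
    have h2 : X.basicOpen (r x) ⊓ X.basicOpen y = X.basicOpen (y |_ X.basicOpen (r x)) :=
      (Scheme.basicOpen_res _ _ _).symm
    rw [h1, h2, hy, Scheme.basicOpen_mul, inf_eq_right]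
    refine (X.basicOpen_le t).trans (ge_of_eq ?_)
    exact Scheme.basicOpen_of_isUnit _ (IsUnit.pow n
      (RingedSpace.isUnit_res_basicOpen (X := X.toLocallyRingedSpace.toRingedSpace) (r x)))
  rw [this]
  exact ⟨ht, hxt⟩

/-- Quasi-affineness of an open, from a cover by basic opens. -/
theorem of_basicOpen_cover_opens (U : X.Opens) (hU : IsCompact (U : Set X))
    (H : ∀ x ∈ U, ∃ r : Γ(X, U), x ∈ X.basicOpen r ∧
      Scheme.IsQuasiAffine (X.basicOpen r : Scheme.{u})) : Scheme.IsQuasiAffine (U : Scheme.{u}) := by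
  have := compactSpace_of_isCompact hU
  refine of_basicOpen_cover _ fun x ↦ ?_
  obtain ⟨r, hxr, hr⟩ := H x.1 x.2
  refine ⟨(U.ι.appIso ⊤).hom (X.presheaf.map (eqToHom U.ι_image_top).op r), ?_⟩
  have himg : U.ι ''ᵁ (U : Scheme.{u}).basicOpen
      ((U.ι.appIso ⊤).hom (X.presheaf.map (eqToHom U.ι_image_top).op r)) = X.basicOpen r := by
    rw [Scheme.image_basicOpen, ← CommRingCat.comp_apply, Iso.hom_inv_id, CommRingCat.id_apply,
      Scheme.basicOpen_res, inf_eq_right]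
    exact (X.basicOpen_le _).trans U.ι_image_top.ge
  constructor
  · obtain ⟨z, hz, hzx⟩ := himg.ge hxr
    rwa [← U.ι.isOpenEmbedding.injective hzx]
  · exact .of_isAffineHom ((U.ι.isoImage _).hom ≫ (X.isoOfEq himg).hom)

/-- A morphism is quasi-affine if the target is covered by affine opens with quasi-affine preimage. -/
theorem isQuasiAffine_of_cover (f : X ⟶ Y)
    (h : ∀ y : Y, ∃ V : Y.Opens, IsAffineOpen V ∧ y ∈ V ∧ Scheme.IsQuasiAffine (f ⁻¹ᵁ V : Scheme.{u})) :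
    Mor2.IsQuasiAffine f := by
  choose V hV hyV hQA using h
  have : QuasiCompact f := by
    refine IsZariskiLocalAtTarget.of_iSup_eq_top V
      (eq_top_iff.mpr fun y _ ↦ Opens.mem_iSup.mpr ⟨y, hyV y⟩) fun y ↦ ?_
    have : IsAffine (V y : Scheme.{u}) := hV y
    have := hQA y
    rw [HasAffineProperty.iff_of_isAffine (P := @QuasiCompact)]
    infer_instance
  refine ⟨this, fun W hW ↦ of_basicOpen_cover_opens _ ?_ fun x hx ↦ ?_⟩
  · exact f.isCompact_preimage hW.isCompact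
  obtain ⟨a, b, hab, ha⟩ := exists_basicOpen_le_affine_inter hW (hV (f x)) (f x) ⟨hx, hyV _⟩
  refine ⟨f.app W a, ?_⟩
  rw [← Scheme.preimage_basicOpen]
  refine ⟨ha, ?_⟩
  have := hQA (f x)
  refine of_le (W := f ⁻¹ᵁ V (f x)) ?_ (f.isCompact_preimage (hW.basicOpen a).isCompact)
  exact f.preimage_mono (hab ▸ Y.basicOpen_le b)

theorem isQuasiAffine_comp {Z : Scheme.{u}} (f : X ⟶ Y) (g : Y ⟶ Z) (hf : Mor2.IsQuasiAffine f)
    (hg : Mor2.IsQuasiAffine g) : Mor2.IsQuasiAffine (f ≫ g) := by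
  have := hf.1
  have := hg.1
  refine ⟨inferInstance, fun W hW ↦ ?_⟩
  have := hg.2 W hW
  rw [Scheme.Hom.comp_preimage]
  refine of_basicOpen_cover_opens _ (f.isCompact_preimage (g.isCompact_preimage hW.isCompact)) fun x hx ↦ ?_
  obtain ⟨r, hr, hxr⟩ := exists_affine_basicOpen (g ⁻¹ᵁ W) (x := f x) hx
  refine ⟨f.app _ r, ?_⟩
  rw [← Scheme.preimage_basicOpen]
  exact ⟨hxr, hf.2 _ hr⟩

theorem isQuasiAffine_baseChange {Y' : Scheme.{u}} (f : X ⟶ Y) (hf : Mor2.IsQuasiAffine f) (g : Y' ⟶ Y) :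
    Mor2.IsQuasiAffine (pullback.snd f g) := by
  refine isQuasiAffine_of_cover _ fun y ↦ ?_
  obtain ⟨_, ⟨V, hV, rfl⟩, hyV, -⟩ :=
    Y.isBasis_affineOpens.exists_subset_of_mem_open (Set.mem_univ (g y)) isOpen_univ
  obtain ⟨_, ⟨V', hV', rfl⟩, hyV', hle⟩ :=
    Y'.isBasis_affineOpens.exists_subset_of_mem_open (show y ∈ g ⁻¹ᵁ V from hyV) (g ⁻¹ᵁ V).isOpen
  change IsAffineOpen (X := Y) V at hV
  refine ⟨V', hV', hyV', ?_⟩
  have hk : g.resLE V V' hle ≫ (Scheme.Opens.ι V) = (Scheme.Opens.ι V') ≫ g := Scheme.Hom.resLE_comp_ι _ _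
  have : IsAffine (V : Scheme.{u}) := hV
  have : IsAffine (V' : Scheme.{u}) := hV'
  have := hf.2 V hV
  have : Scheme.IsQuasiAffine (pullback f (Scheme.Opens.ι V)) :=
    .of_isAffineHom (pullbackRestrictIsoRestrict f V).hom
  let e : ((pullback.snd f g ⁻¹ᵁ V' : (pullback f g).Opens) : Scheme.{u}) ≅
      pullback (pullback.snd f (Scheme.Opens.ι V)) (g.resLE V V' hle) :=
    (pullbackRestrictIsoRestrict (pullback.snd f g) V').symm ≪≫ pullbackLeftPullbackSndIso f g (Scheme.Opens.ι V') ≪≫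
      pullback.congrHom rfl hk.symm ≪≫ (pullbackLeftPullbackSndIso f (Scheme.Opens.ι V) _).symm
  have : IsAffineHom (g.resLE V V' hle) := isAffineHom_of_isAffine _
  have : IsAffineHom (pullback.fst (pullback.snd f (Scheme.Opens.ι V)) (g.resLE V V' hle)) :=
    MorphismProperty.pullback_fst (P := @IsAffineHom) _ _ inferInstance
  exact .of_isAffineHom (e.hom ≫ pullback.fst (pullback.snd f (Scheme.Opens.ι V)) (g.resLE V V' hle))

theorem isQuasiAffine_of_comp {Z : Scheme.{u}} (f : X ⟶ Y) (g : Y ⟶ Z) [QuasiSeparated g]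
    (h : Mor2.IsQuasiAffine (f ≫ g)) : Mor2.IsQuasiAffine f := by
  have := h.1
  have := QuasiCompact.of_comp f g
  refine isQuasiAffine_of_cover f fun y ↦ ?_
  obtain ⟨_, ⟨W, hW, rfl⟩, hyW, -⟩ :=
    Z.isBasis_affineOpens.exists_subset_of_mem_open (Set.mem_univ (g y)) isOpen_univ
  obtain ⟨_, ⟨V, hV, rfl⟩, hyV, hle⟩ :=
    Y.isBasis_affineOpens.exists_subset_of_mem_open (show y ∈ g ⁻¹ᵁ W from hyW) (g ⁻¹ᵁ W).isOpen
  have := h.2 W hW
  exact ⟨V, hV, hyV, of_le (W := (f ≫ g) ⁻¹ᵁ W) (fun x hx ↦ hle hx) (f.isCompact_preimage hV.isCompact)⟩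

theorem isQuasiAffine_of_isEmbedding (f : X ⟶ Y) [QuasiCompact f] (hf : Topology.IsEmbedding f.base) :
    Mor2.IsQuasiAffine f := by
  refine ⟨inferInstance, fun W hW ↦ of_basicOpen_cover_opens _ (f.isCompact_preimage hW.isCompact) fun x hx ↦ ?_⟩
  obtain ⟨_, ⟨U, hU, rfl⟩, hxU, hUW⟩ :=
    X.isBasis_affineOpens.exists_subset_of_mem_open (show x ∈ f ⁻¹ᵁ W from hx) (f ⁻¹ᵁ W).isOpen
  obtain ⟨O, hO, hOU⟩ := hf.isOpen_iff.mp U.isOpen
  have hfO : f x ∈ O := by rw [← Set.mem_preimage, hOU]; exact hxU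
  obtain ⟨r, hrO, hxr⟩ := hW.exists_basicOpen_le (V := W ⊓ ⟨O, hO⟩) ⟨f x, hx, hfO⟩ hx
  refine ⟨f.app W r, ?_⟩
  have hle : X.basicOpen (f.app W r) ≤ U := by
    rw [← Scheme.preimage_basicOpen]
    intro z hz
    rw [SetLike.mem_coe.symm, ← hOU]
    exact (hrO hz).2
  have hle' : U ≤ f ⁻¹ᵁ W := hUW
  have heq : X.basicOpen (f.app W r) = X.basicOpen (X.presheaf.map (homOfLE hle').op (f.app W r)) := by
    rw [Scheme.basicOpen_res, inf_eq_right.mpr hle]
  refine ⟨by rw [← Scheme.preimage_basicOpen]; exact hxr, ?_⟩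
  have : IsAffine (X.basicOpen (f.app W r) : Scheme.{u}) := heq ▸ hU.basicOpen _
  infer_instance

end Groth.Agent.QuasiAffLib
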